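-- Stabilizer chain and simplicity data for M11C; generated, checked by the kernel.
import Cfsg.Agent.Lib.Compute.TC.M11A.Final
import Cfsg.Agent.Lib.Compute.TCChain2
set_option autoImplicit false
set_option maxRecDepth 1000000

open Cfsg.Agent.Lib.Compute.ToddCoxeterCore Cfsg.Agent.Lib.Compute.ToddCoxeterPresented Cfsg.Agent.Lib.Compute.TCFast Cfsg.Agent.Lib.Compute.TCChain

namespace Cfsg.Agent.Lib.Compute.TC.M11C

/-- the first level of the chain -/
def next0 : List PE := [.mul (.lt (nat_lit 0)) (.mul (.lt (nat_lit 2)) (.lt (nat_lit 0))), .mul (.lt (nat_lit 1)) (.mul (.lt (nat_lit 0)) (.mul (.lt (nat_lit 1)) (.mul (.lt (nat_lit 1)) (.mul (.lt (nat_lit 0)) (.lt (nat_lit 1))))))]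

/-- the degree -/
def degree : ℕ := 11

/-- a moved point -/
def x0 : ℕ := 0

theorem fix0 : fixAll (ev0 Cfsg.Agent.Lib.Compute.TC.M11A.cfg) 0 next0 = true := by decide +kernel

theorem N_eq : Cfsg.Agent.Lib.Compute.TC.M11A.cfg.N = nat_lit 11 := by decide +kernel

/-- evaluation at the first level -/
noncomputable def evL0 : ℕ → Bool → ℕ → ℕ := evN (ev0 Cfsg.Agent.Lib.Compute.TC.M11A.cfg) next0

/-- the orbit table of level 0 -/
noncomputable def tb0 : TT := .leaf (nat_lit 0x20100000100000a020100000400000903010000080000080401000005000007030100000000000601000000020000050400000005000004000000000000000301010000020000020200000001000001)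
/-- level 0 -/
noncomputable def lv0 : Lvl where
  b := nat_lit 3
  n := nat_lit 10
  t := fun k => TT.fld tb0 (nat_lit 64) (nat_lit 63) (nat_lit 18446744073709551615) k
  next := [.mul (.inv (.mul (.lt (nat_lit 1)) (.mul (.lt (nat_lit 1)) (.mul (.lt (nat_lit 0)) (.lt (nat_lit 1)))))) (.mul (.lt (nat_lit 0)) (.mul (.lt (nat_lit 1)) (.mul (.lt (nat_lit 1)) (.mul (.lt (nat_lit 0)) (.lt (nat_lit 1)))))), .mul (.inv (.mul (.lt (nat_lit 1)) (.mul (.lt (nat_lit 0)) (.lt (nat_lit 1))))) (.mul (.lt (nat_lit 0)) (.mul (.lt (nat_lit 1)) (.lt (nat_lit 1)))), .mul (.inv (.mul (.lt (nat_lit 1)) (.lt (nat_lit 0)))) (.mul (.lt (nat_lit 0)) (.mul (.lt (nat_lit 0)) (.mul (.lt (nat_lit 1)) (.mul (.lt (nat_lit 0)) (.lt (nat_lit 1)))))), .mul (.inv (.mul (.lt (nat_lit 1)) (.mul (.lt (nat_lit 1)) (.lt (nat_lit 0))))) (.mul (.lt (nat_lit 0)) (.mul (.lt (nat_lit 1)) (.mul (.lt (nat_lit 1)) (.lt (nat_lit 0)))))]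

/-- evaluation at the next level -/
noncomputable def evL1 : ℕ → Bool → ℕ → ℕ := evN evL0 lv0.next

/-- the orbit table of level 1 -/
noncomputable def tb1 : TT := .leaf (nat_lit 0x20100000200000a02030000020000090000000000000008020300000000000701020000060000060200000002000005010000000600000402010000000000020103000006000001)
/-- level 1 -/
noncomputable def lv1 : Lvl where
  b := nat_lit 8
  n := nat_lit 9
  t := fun k => TT.fld tb1 (nat_lit 64) (nat_lit 63) (nat_lit 18446744073709551615) k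
  next := [.mul (.inv (.mul (.lt (nat_lit 0)) (.lt (nat_lit 0)))) (.mul (.lt (nat_lit 3)) (.mul (.lt (nat_lit 1)) (.lt (nat_lit 0)))), .mul (.inv (.lt (nat_lit 3))) (.mul (.lt (nat_lit 1)) (.mul (.lt (nat_lit 3)) (.lt (nat_lit 3)))), .mul (.inv (.lt (nat_lit 3))) (.mul (.lt (nat_lit 2)) (.mul (.lt (nat_lit 0)) (.lt (nat_lit 0)))), .mul (.inv (.mul (.lt (nat_lit 1)) (.lt (nat_lit 3)))) (.mul (.lt (nat_lit 2)) (.mul (.lt (nat_lit 1)) (.lt (nat_lit 0))))]

/-- evaluation at the next level -/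
noncomputable def evL2 : ℕ → Bool → ℕ → ℕ := evN evL1 lv1.next

/-- the orbit table of level 2 -/
noncomputable def tb2 : TT := .leaf (nat_lit 0x20200000500000a0103000001000009010000000100000702010000050000060102000001000005010100000100000400000000000000020203000005000001)
/-- level 2 -/
noncomputable def lv2 : Lvl where
  b := nat_lit 2
  n := nat_lit 8
  t := fun k => TT.fld tb2 (nat_lit 64) (nat_lit 63) (nat_lit 18446744073709551615) k
  next := []

/-- the chain -/
noncomputable def ls : List Lvl := [lv0, lv1, lv2]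

theorem prodEq : Cfsg.Agent.Lib.Compute.TC.M11A.cfg.N * (ls.map (·.n)).prod = 7920 := by decide +kernel

def p29 : PE := .mul (PE.lt (nat_lit 1)) (PE.lt (nat_lit 1))
def p30 : PE := .mul (PE.lt (nat_lit 1)) p29
def p33 : PE := .mul p30 p30
def p34 : PE := .mul (PE.lt (nat_lit 1)) p33
def p31 : PE := .mul p29 p29
def p35 : PE := .mul p31 p31
def p36 : PE := .mul (PE.lt (nat_lit 1)) p35
def p32 : PE := .mul (PE.lt (nat_lit 1)) p31
def p37 : PE := .mul p32 p32
def p2 : PE := .mul (PE.lt (nat_lit 0)) (PE.lt (nat_lit 2))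
def p4 : PE := .mul (PE.lt (nat_lit 1)) p2
def p5 : PE := .mul (PE.lt (nat_lit 0)) p4
def p6 : PE := .mul (PE.lt (nat_lit 2)) p5
def p7 : PE := .mul (PE.lt (nat_lit 0)) p6
def p8 : PE := .mul (PE.lt (nat_lit 2)) p7
def p9 : PE := .mul (PE.lt (nat_lit 1)) p8
def p10 : PE := .mul (PE.lt (nat_lit 0)) p9
def p11 : PE := .mul (PE.lt (nat_lit 2)) p10
def p12 : PE := .mul (PE.lt (nat_lit 0)) p11
def p13 : PE := .mul (PE.lt (nat_lit 2)) p12
def p14 : PE := .mul (PE.lt (nat_lit 1)) p13
def p15 : PE := .mul (PE.lt (nat_lit 0)) p14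
def p22 : PE := .mul (PE.lt (nat_lit 1)) (PE.lt (nat_lit 0))
def p16 : PE := .inv p15
def p17 : PE := .mul (PE.lt (nat_lit 2)) p16
def p18 : PE := .inv (PE.lt (nat_lit 2))
def p19 : PE := .mul p17 p18
def p20 : PE := .mul p15 p19
def p21 : PE := .mul p20 p20
def p23 : PE := .mul p22 p21
def p24 : PE := .inv p22
def p25 : PE := .mul p23 p24
def p26 : PE := .mul p25 (PE.lt (nat_lit 0))
def p27 : PE := .mul p26 p26
def p28 : PE := .mul p27 p22

/-- the element of prime order -/
noncomputable def rr : PE := p15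

def d1 : Dv := .inv Dv.base
def d2 : Dv := .conj (PE.lt (nat_lit 2)) d1
def d3 : Dv := .mul Dv.base d2
def d4 : Dv := .mul d3 d3
def d5 : Dv := .conj p28 d4
def d6 : Dv := .conj (PE.lt (nat_lit 1)) d5
def d7 : Dv := .mul d5 d6
def d8 : Dv := .conj p29 d5
def d9 : Dv := .mul d7 d8
def d10 : Dv := .conj p30 d5
def d11 : Dv := .mul d9 d10
def d12 : Dv := .conj p31 d5
def d13 : Dv := .mul d11 d12
def d14 : Dv := .conj p32 d5
def d15 : Dv := .mul d13 d14
def d16 : Dv := .conj p33 d5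
def d17 : Dv := .mul d15 d16
def d18 : Dv := .conj p34 d5
def d19 : Dv := .mul d17 d18
def d20 : Dv := .conj p35 d5
def d21 : Dv := .mul d19 d20
def d22 : Dv := .conj p36 d5
def d23 : Dv := .mul d21 d22
def d24 : Dv := .conj p37 d5
def d25 : Dv := .mul d23 d24
def d26 : Dv := .inv d25

/-- the letters as elements of the normal closure -/
noncomputable def ds : List Dv := [d5, d25, d26]

theorem rPow : eqOn (ev0 Cfsg.Agent.Lib.Compute.TC.M11A.cfg) (rr.pw (11 ^ 1)) .one (0 :: ls.map (·.b)) = true := by decide +kernel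

theorem rNe : PE.ev (ev0 Cfsg.Agent.Lib.Compute.TC.M11A.cfg) rr true x0 ≠ x0 := by decide +kernel

theorem dsOK : ∀ x, x < Cfsg.Agent.Lib.Compute.TC.M11A.cfg.L → eqOn (ev0 Cfsg.Agent.Lib.Compute.TC.M11A.cfg) ((ds.getD x .base).toPE rr) (.lt x) (0 :: ls.map (·.b)) = true := by decide +kernel

end Cfsg.Agent.Lib.Compute.TC.M11C
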